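import Cfsg.Agent.LyG2.Upper

/-!
A checker for logged coset enumerations, shaped for evaluation by the kernel.

Nodes carry representatives along a tree of definitions. A fact `(u, l, v)` says that
`cr u * l * (cr v)⁻¹` lies in the subgroup; each fact is a tree edge or is obtained from a cycle of
earlier facts around a relator (letters from `14` on stand for the empty word).
-/

set_option autoImplicit false

namespace CfsgLib.HNXYZ

open CfsgLib.CosetEnum CfsgLib.LyG2

noncomputable section

/-- The data of a log. -/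
structure Log where
  /-- number of nodes -/
  N : ℕ
  /-- number of facts -/
  nF : ℕ
  /-- number of letters -/
  k : ℕ
  /-- number of words equal to one -/
  nR : ℕ
  /-- words equal to one, then words in the subgroup -/
  words : List (List ℕ)
  /-- parent of a node -/
  parN : ℕ → ℕ
  /-- letter of a tree edge -/
  parX : ℕ → ℕ
  /-- packed fact -/
  fct : ℕ → ℕ
  /-- start, word, number of references before the gap, references -/
  just : ℕ → List ℕ

/-- Source of a packed fact. -/
def fU (f : ℕ) : ℕ := Nat.land f 65535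
/-- Target of a packed fact. -/
def fV (f : ℕ) : ℕ := Nat.land (Nat.shiftRight f 16) 65535
/-- Letter of a packed fact. -/
def fL (f : ℕ) : ℕ := Nat.land (Nat.shiftRight f 32) 255

/-- Entry of a packed piece. -/
def pget (w : ℕ) (tbl i : ℕ) : ℕ :=
  Nat.land (Nat.shiftRight tbl (Nat.mul w i)) (Nat.sub (Nat.pow 2 w) 1)

/-- Start node of an oriented reference. -/
def Log.src (L : Log) (r : ℕ) : ℕ :=
  bif Nat.beq (Nat.land r 1) 0 then fU (L.fct (Nat.shiftRight r 1))
  else fV (L.fct (Nat.shiftRight r 1))

/-- End node of an oriented reference. -/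
def Log.tgt (L : Log) (r : ℕ) : ℕ :=
  bif Nat.beq (Nat.land r 1) 0 then fV (L.fct (Nat.shiftRight r 1))
  else fU (L.fct (Nat.shiftRight r 1))

/-- Letter of an oriented reference. -/
def Log.let' (L : Log) (r : ℕ) : ℕ :=
  bif Nat.beq (Nat.land r 1) 0 then fL (L.fct (Nat.shiftRight r 1))
  else bif Nat.blt (fL (L.fct (Nat.shiftRight r 1))) 14 then
    iv (fL (L.fct (Nat.shiftRight r 1))) else 14

/-- Append a letter to a reduced word kept backwards. -/
def push (x : ℕ) (st : List ℕ) : List ℕ :=
  bif Nat.blt x 14 then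
    List.rec (motive := fun _ => List ℕ) [x]
      (fun y r _ => bif Nat.beq y (iv x) then r else x :: y :: r) st
  else st

/-- Follow references. -/
def Log.follow (L : Log) (bd : ℕ) (refs : List ℕ) (a : ℕ) (st : List ℕ) : Option (ℕ × List ℕ) :=
  List.rec (motive := fun _ => ℕ → List ℕ → Option (ℕ × List ℕ)) (fun a st => some (a, st))
    (fun r _ ih a st => bif Nat.blt (Nat.shiftRight r 1) bd && Nat.beq (L.src r) a then
      force (L.tgt r) fun b => force (L.let' r) fun x => ih b (push x st) else none)
    refs a st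

/-- Free reduction, backwards. -/
def redRev (w : List ℕ) (st : List ℕ) : List ℕ :=
  List.rec (motive := fun _ => List ℕ → List ℕ) (fun st => st) (fun x _ ih st => ih (push x st)) w st

/-- Equality of lists of numbers. -/
def leq (a b : List ℕ) : Bool :=
  List.rec (motive := fun _ => List ℕ → Bool)
    (fun b => List.rec (motive := fun _ => Bool) true (fun _ _ _ => false) b)
    (fun x _ ih b => List.rec (motive := fun _ => Bool) false (fun y r _ => Nat.beq x y && ih r) b)
    a b

/-- Check a fact which is not a tree edge. -/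
def Log.cycleOK (L : Log) (i : ℕ) : Bool :=
  match L.just i with
  | s :: r :: np :: refs =>
    (Nat.blt r L.nR || (Nat.beq s 0 && Nat.blt r L.words.length)) &&
      match L.follow i (refs.take np) s [] with
      | some (a, st) =>
        Nat.beq a (fU (L.fct i)) &&
          match L.follow i (refs.drop np) (fV (L.fct i)) (push (fL (L.fct i)) st) with
          | some (e, st') => Nat.beq e s && leq st' (redRev (L.words.getD r []) [])
          | none => false
      | none => false
  | _ => false

/-- Check a tree edge. -/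
def Log.treeOKAt (L : Log) (i : ℕ) : Bool :=
  Nat.blt (L.parN (Nat.add i 1)) (Nat.add i 1) &&
    (Nat.blt (L.parX (Nat.add i 1)) 14 &&
      (Nat.beq (fU (L.fct i)) (L.parN (Nat.add i 1)) &&
        (Nat.beq (fL (L.fct i)) (L.parX (Nat.add i 1)) && Nat.beq (fV (L.fct i)) (Nat.add i 1))))

/-- Check a fact. -/
def Log.factOK (L : Log) (i : ℕ) : Bool :=
  bif Nat.blt i L.nF then
    bif Nat.blt i (Nat.sub L.N 1) then L.treeOKAt i else L.cycleOK i
  else true

section Sound

variable {G : Type*} [Group G] (g : ℕ → G)

/-- The value of a letter, letters from `14` on being the empty word. -/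
def val (x : ℕ) : G := if x < 14 then g x else 1

/-- Representative of a node. -/
def Log.cr (L : Log) (i : ℕ) : G :=
  if _h : 0 < i ∧ L.parN i < i then L.cr (L.parN i) * g (L.parX i) else 1
termination_by i

theorem Log.cr_zero (L : Log) : L.cr g 0 = 1 := by
  rw [Log.cr, dif_neg]; simp

theorem leq_eq : ∀ a b : List ℕ, leq a b = true → a = b := by
  intro a
  induction a with
  | nil => intro b h; cases b with
    | nil => rfl
    | cons y r => exact absurd h Bool.false_ne_true
  | cons x a ih => intro b h; cases b with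
    | nil => exact absurd h Bool.false_ne_true
    | cons y r =>
      have h' : (Nat.beq x y && leq a r) = true := h
      simp only [Bool.and_eq_true, Nat.beq_eq] at h'
      rw [h'.1, ih r h'.2]

/-- The product of a word kept backwards. -/
def rv (st : List ℕ) : G := prodw g st.reverse

variable {g} (hg : ∀ x, g (iv x) = (g x)⁻¹)

theorem iv_lt {x : ℕ} (h : x < 14) : iv x < 14 := by
  rcases Nat.even_or_odd' x with ⟨i, rfl | rfl⟩
  · rw [iv_even]; omega
  · rw [iv_odd]; omega

include hg in
theorem rv_push (x : ℕ) (st : List ℕ) : rv g (push x st) = rv g st * val g x := by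
  unfold push val
  by_cases hx : x < 14
  · rw [show Nat.blt x 14 = true by simpa using hx]
    simp only [cond_true, if_pos hx]
    cases st with
    | nil => simp [rv, prodw]
    | cons y r =>
      show rv g (bif Nat.beq y (iv x) then r else x :: y :: r) = _
      cases h : Nat.beq y (iv x)
      · simp [rv, prodw, mul_assoc]
      · obtain rfl := Nat.eq_of_beq_eq_true h
        simp [rv, prodw, hg, mul_assoc]
  · rw [show Nat.blt x 14 = false by
      cases h : Nat.blt x 14
      · rfl
      · exact absurd (by simpa using h) hx]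
    simp [if_neg hx]

include hg in
theorem rv_redRev : ∀ (w st : List ℕ), (∀ x ∈ w, x < 14) →
    rv g (redRev w st) = rv g st * prodw g w := by
  intro w
  induction w with
  | nil => intro st _; simp [redRev, prodw]
  | cons x w ih =>
    intro st h
    show rv g (redRev w (push x st)) = _
    rw [ih _ fun y hy => h y (List.mem_cons_of_mem x hy), rv_push hg, prodw_cons, val,
      if_pos (h x List.mem_cons_self), mul_assoc]

variable (L : Log) (H : Subgroup G)

/-- Meaning of a fact. -/
def Log.FRel (f : ℕ) : Prop := L.cr g (fU f) * val g (fL f) * (L.cr g (fV f))⁻¹ ∈ H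

include hg in
theorem ref_sound {r : ℕ} (h : L.FRel (g := g) H (L.fct (r / 2))) :
    L.cr g (L.src r) * val g (L.let' r) * (L.cr g (L.tgt r))⁻¹ ∈ H := by
  have hs : Nat.shiftRight r 1 = r / 2 := Nat.shiftRight_eq_div_pow r 1
  unfold Log.src Log.tgt Log.let'
  rw [hs]
  cases hb : Nat.beq (Nat.land r 1) 0
  · simp only [cond_false]
    unfold Log.FRel val at h
    by_cases hx : fL (L.fct (r / 2)) < 14
    · rw [show Nat.blt (fL (L.fct (r / 2))) 14 = true by simpa using hx]
      simp only [cond_true, val, if_pos (iv_lt hx), hg]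
      rw [if_pos hx] at h
      simpa [mul_assoc] using H.inv_mem h
    · rw [show Nat.blt (fL (L.fct (r / 2))) 14 = false by
        cases h' : Nat.blt (fL (L.fct (r / 2))) 14
        · rfl
        · exact absurd (by simpa using h') hx]
      simp only [cond_false, val, if_neg (show ¬ 14 < 14 by omega)]
      rw [if_neg hx] at h
      simpa [mul_assoc] using H.inv_mem h
  · simpa [Log.FRel] using h

include hg in
theorem follow_sound {bd : ℕ} (hF : ∀ i < bd, L.FRel (g := g) H (L.fct i)) :
    ∀ (refs : List ℕ) (a : ℕ) (st : List ℕ) (e : ℕ) (st' : List ℕ),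
      L.follow bd refs a st = some (e, st') →
      ∃ m, rv g st' = rv g st * m ∧ L.cr g a * m * (L.cr g e)⁻¹ ∈ H := by
  intro refs
  induction refs with
  | nil =>
    intro a st e st' h
    have h' : some (a, st) = some (e, st') := h
    simp only [Option.some.injEq, Prod.mk.injEq] at h'
    obtain ⟨rfl, rfl⟩ := h'
    exact ⟨1, by simp, by simp⟩
  | cons r refs ih =>
    intro a st e st' h
    have h' : (bif Nat.blt (Nat.shiftRight r 1) bd && Nat.beq (L.src r) a then
        force (L.tgt r) fun b => force (L.let' r) fun x => L.follow bd refs b (push x st)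
      else none) = some (e, st') := h
    cases hc : (Nat.blt (Nat.shiftRight r 1) bd && Nat.beq (L.src r) a)
    · rw [hc] at h'; simp at h'
    rw [hc] at h'
    simp only [cond_true, force_eq] at h'
    simp only [Bool.and_eq_true, Nat.blt_eq, Nat.beq_eq] at hc
    have hlt : r / 2 < bd := by
      have : Nat.shiftRight r 1 = r / 2 := Nat.shiftRight_eq_div_pow r 1
      omega
    obtain ⟨m, hm, hH⟩ := ih _ _ _ _ h'
    refine ⟨val g (L.let' r) * m, by rw [hm, rv_push hg, mul_assoc], ?_⟩
    have := H.mul_mem (hc.2 ▸ ref_sound hg L H (hF _ hlt)) hH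
    simpa [mul_assoc] using this

variable (hrel : ∀ r, r < L.nR → prodw g (L.words.getD r []) = 1)
  (hsub : ∀ r, r < L.words.length → prodw g (L.words.getD r []) ∈ H)
  (hlet : ∀ r, ∀ x ∈ L.words.getD r [], x < 14)

include hg hrel hsub hlet in
theorem cycle_sound {i : ℕ} (hF : ∀ j < i, L.FRel (g := g) H (L.fct j))
    (h : L.cycleOK i = true) : L.FRel (g := g) H (L.fct i) := by
  unfold Log.cycleOK at h
  split at h
  case h_2 => exact absurd h Bool.false_ne_true
  rename_i s r np refs _
  simp only [Bool.and_eq_true, Bool.or_eq_true, Nat.blt_eq, Nat.beq_eq] at h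
  obtain ⟨hc, h⟩ := h
  split at h
  case h_2 => exact absurd h Bool.false_ne_true
  rename_i a st hA
  simp only [Bool.and_eq_true, Nat.beq_eq] at h
  obtain ⟨rfl, h⟩ := h
  split at h
  case h_2 => exact absurd h Bool.false_ne_true
  rename_i e st' hB
  simp only [Bool.and_eq_true, Nat.beq_eq] at h
  obtain ⟨rfl, hw⟩ := h
  obtain rfl := leq_eq _ _ hw
  obtain ⟨m, hm, hmH⟩ := follow_sound hg L H hF _ _ _ _ _ hA
  obtain ⟨n, hn, hnH⟩ := follow_sound hg L H hF _ _ _ _ _ hB
  have hword : L.cr g e * prodw g (L.words.getD r []) * (L.cr g e)⁻¹ ∈ H := by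
    rcases hc with h | ⟨rfl, h⟩
    · rw [hrel r h]; simp [H.one_mem]
    · simpa [Log.cr_zero] using hsub r h
  have hv : prodw g (L.words.getD r []) = m * val g (fL (L.fct i)) * n := by
    have h0 : rv g ([] : List ℕ) = (1 : G) := rfl
    rw [rv_redRev hg _ _ (hlet r), rv_push hg, hm, h0, one_mul, one_mul] at hn
    exact hn
  have := H.mul_mem (H.mul_mem (H.inv_mem hmH) hword) (H.inv_mem hnH)
  rw [hv] at this
  simpa [Log.FRel, mul_assoc] using this

include hg hrel hsub hlet in
theorem facts_sound (hok : ∀ i < L.nF, L.factOK i = true) :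
    ∀ i < L.nF, L.FRel (g := g) H (L.fct i) := by
  intro i
  induction i using Nat.strong_induction_on with
  | _ i ih =>
    intro hi
    have h := hok i hi
    unfold Log.factOK at h
    rw [show Nat.blt i L.nF = true by simpa using hi] at h
    simp only [cond_true] at h
    cases ht : Nat.blt i (Nat.sub L.N 1)
    · rw [ht] at h
      simp only [cond_false] at h
      exact cycle_sound hg L H hrel hsub hlet (fun j hj => ih j hj (hj.trans hi)) h
    · rw [ht] at h
      simp only [cond_true] at h
      unfold Log.treeOKAt at h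
      simp only [Bool.and_eq_true, Nat.blt_eq, Nat.beq_eq, Nat.add_eq] at h
      obtain ⟨hp, hx, hu, hl, hv⟩ := h
      have hs : L.cr g (i + 1) = L.cr g (L.parN (i + 1)) * g (L.parX (i + 1)) := by
        conv_lhs => rw [Log.cr, dif_pos ⟨Nat.succ_pos i, hp⟩]
      rw [Log.FRel, hu, hl, hv, val, if_pos hx, hs]
      simp [mul_assoc, H.one_mem]

/-- Check facts `[lo, lo + 2 ^ d)`. -/
def Log.chunk (d lo : ℕ) : Bool := allR L.factOK d lo

theorem chunk_spec {d lo : ℕ} (h : L.chunk d lo = true) :
    ∀ i, lo ≤ i → i < lo + 2 ^ d → L.factOK i = true :=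
  allR_spec d lo h

/-- A path of references of a word closed at node `0`. -/
def Log.loopOK (w refs : List ℕ) : Bool :=
  match L.follow L.nF refs 0 [] with
  | some (e, st) => Nat.beq e 0 && (w.all (fun x => Nat.blt x 14) && leq st (redRev w []))
  | none => false

include hg hrel hsub hlet in
theorem loop_sound (hok : ∀ i < L.nF, L.factOK i = true) {w refs : List ℕ}
    (h : L.loopOK w refs = true) : prodw g w ∈ H := by
  unfold Log.loopOK at h
  split at h
  case h_2 => exact absurd h Bool.false_ne_true
  rename_i e st hA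
  simp only [Bool.and_eq_true, Nat.beq_eq, List.all_eq_true, Nat.blt_eq] at h
  obtain ⟨rfl, hw, hst⟩ := h
  obtain rfl := leq_eq _ _ hst
  obtain ⟨m, hm, hmH⟩ :=
    follow_sound hg L H (facts_sound hg L H hrel hsub hlet hok) _ _ _ _ _ hA
  rw [rv_redRev hg _ _ hw] at hm
  rw [mul_left_cancel hm]
  simpa [Log.cr_zero] using hmH

/-- A closed table: the node of each coset, and for each coset and letter a target and a fact. -/
structure Closed where
  /-- number of cosets -/
  n : ℕ
  /-- node of a coset -/
  node : ℕ → ℕ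
  /-- target of an edge -/
  dest : ℕ → ℕ → ℕ
  /-- reference of an edge -/
  ref : ℕ → ℕ → ℕ

/-- Check all edges of a coset. -/
def Log.edgesOK (C : Closed) (j : ℕ) : Bool :=
  bif Nat.blt j C.n then
    allR (fun x => bif Nat.blt x L.k then
      Nat.blt (C.dest x j) C.n && (Nat.blt (Nat.shiftRight (C.ref x j) 1) L.nF &&
        (Nat.beq (L.src (C.ref x j)) (C.node j) && (Nat.beq (L.let' (C.ref x j)) x &&
          Nat.beq (L.tgt (C.ref x j)) (C.node (C.dest x j))))) else true) 4 0
  else true

include hg hrel hsub hlet in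
theorem edge_mem (hok : ∀ i < L.nF, L.factOK i = true) (C : Closed) {d : ℕ} (hk : L.k ≤ 14)
    (hd : C.n ≤ 2 ^ d) (hedges : allR (L.edgesOK C) d 0 = true) {i x : ℕ} (hi : i < C.n)
    (hx : x < L.k) :
    C.dest x i < C.n ∧
      L.cr g (C.node i) * g x * (L.cr g (C.node (C.dest x i)))⁻¹ ∈ H := by
  have h1 := allR_spec d 0 hedges i (Nat.zero_le _) (by omega)
  unfold Log.edgesOK at h1
  rw [show Nat.blt i C.n = true by simpa using hi] at h1
  simp only [cond_true] at h1
  have h2 := allR_spec 4 0 h1 x (Nat.zero_le _) (by show x < 0 + 2 ^ 4; omega)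
  rw [show Nat.blt x L.k = true by simpa using hx] at h2
  simp only [cond_true, Bool.and_eq_true, Nat.blt_eq, Nat.beq_eq] at h2
  obtain ⟨hj, hlt, hs, hl, ht⟩ := h2
  have hlt' : C.ref x i / 2 < L.nF := by
    have : Nat.shiftRight (C.ref x i) 1 = C.ref x i / 2 := Nat.shiftRight_eq_div_pow _ 1
    omega
  refine ⟨hj, ?_⟩
  have := ref_sound hg L H (facts_sound hg L H hrel hsub hlet hok _ hlt')
  rwa [hs, hl, ht, val, if_pos (show x < 14 by omega)] at this

include hg hrel hsub hlet in
theorem finite_and_card_le (hok : ∀ i < L.nF, L.factOK i = true) (C : Closed) [Finite H] {d : ℕ}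
    (hk : L.k ≤ 14) (hiv : ∀ x, x < L.k → iv x < L.k) (hd : C.n ≤ 2 ^ d) (hn : 0 < C.n)
    (h0 : C.node 0 = 0) (hedges : allR (L.edgesOK C) d 0 = true) :
    Finite (Subgroup.closure (g '' {x | x < L.k})) ∧
      Nat.card (Subgroup.closure (g '' {x | x < L.k})) ≤ C.n * Nat.card H := by
  set c : ℕ → G := fun j => L.cr g (C.node j) with hc
  have hedge : ∀ i x, i < C.n → x < L.k → ∃ j, j < C.n ∧ c i * g x * (c j)⁻¹ ∈ H :=
    fun i x hi hx => ⟨_, edge_mem hg L H hrel hsub hlet hok C hk hd hedges hi hx⟩
  have hc0 : c 0 = 1 := by rw [hc]; simp only [h0, Log.cr_zero]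
  have claim : ∀ y ∈ Subgroup.closure (g '' {x | x < L.k}), ∀ i, i < C.n →
      ∃ j, j < C.n ∧ c i * y * (c j)⁻¹ ∈ H := by
    intro y hy
    induction hy using Subgroup.closure_induction'' with
    | mem y hy =>
      obtain ⟨x, hx, rfl⟩ := hy
      exact fun i hi => hedge i x hi hx
    | inv_mem y hy =>
      obtain ⟨x, hx, rfl⟩ := hy
      rw [← hg x]
      exact fun i hi => hedge i _ hi (hiv x hx)
    | one => exact fun i hi => ⟨i, hi, by simp [H.one_mem]⟩
    | mul y z _ _ h1 h2 =>
      intro i hi
      obtain ⟨j, hj, hyj⟩ := h1 i hi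
      obtain ⟨l, hl, hzl⟩ := h2 j hj
      refine ⟨l, hl, ?_⟩
      have := H.mul_mem hyj hzl
      simpa [mul_assoc] using this
  let f : Fin C.n × H → G := fun p => (p.2 : G) * c p.1
  have hsub' : ((Subgroup.closure (g '' {x | x < L.k})) : Set G) ⊆ Set.range f := by
    intro y hy
    obtain ⟨j, hj, hyj⟩ := claim y hy 0 hn
    rw [hc0, one_mul] at hyj
    exact ⟨(⟨j, hj⟩, ⟨_, hyj⟩), inv_mul_cancel_right y (c j)⟩
  refine ⟨((Set.finite_range f).subset hsub').to_subtype, ?_⟩
  calc Nat.card (Subgroup.closure (g '' {x | x < L.k}))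
      ≤ Nat.card (Set.range f) := Nat.card_mono (Set.finite_range f) hsub'
    _ ≤ Nat.card (Fin C.n × H) := Finite.card_range_le f
    _ = C.n * Nat.card H := by rw [Nat.card_prod, Nat.card_fin]

end Sound

end

end CfsgLib.HNXYZ
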