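import Cfsg.Agent.HNXYZ.Rels
import Cfsg.Agent.HNXYZ.Cert.LC
import Cfsg.Agent.HNXYZ.Cert.S0
import Cfsg.Agent.HNXYZ.Cert.S1

/-!
The group on `x, y` has at most 1512000 elements, and its relations are decided by the action on
6300 cosets together with the exponent sum of `x` modulo four.
-/

set_option autoImplicit false
set_option maxRecDepth 100000
set_option Elab.async false

namespace CfsgLib.HNXYZ

open CfsgLib.CosetEnum CfsgLib.LyG2

noncomputable section

theorem lc_loop {w refs : List ℕ} (h : LC.log.loopOK w refs = true) : prodw ga w = 1 :=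
  have hR : ∀ r, r < LC.log.nR → prodw ga (LC.log.words.getD r []) = 1 :=
    rels_one relsA (fun _ => ga_rel) (by decide +kernel) (by decide +kernel)
  Subgroup.mem_bot.1 (loop_sound ga_iv LC.log ⊥ hR
    (subs_mem ⊥ hR (by
      intro w hw
      rw [show LC.log.words.drop LC.log.nR = [] by decide +kernel] at hw
      simp at hw))
    (letters_lt LC.letters_ok) LC.factsOK h)

/-- The words of `y, y⁻¹, s, s⁻¹, q, q⁻¹`, with `s = x⁻¹y³x` and `q = x²`. -/
def ex0 : ℕ → List ℕ
  | 0 => [2]
  | 1 => [3]
  | 2 => [1, 2, 2, 2, 0]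
  | 3 => [1, 3, 3, 3, 0]
  | 4 => [0, 0]
  | 5 => [1, 1]
  | _ => []

/-- The letters of the small subgroup. -/
def g0 (i : ℕ) : GA :=
  lv (fun j => match j with
    | 0 => prodw ga [2]
    | 1 => prodw ga [1, 2, 2, 2, 0]
    | 2 => prodw ga [0, 0]
    | _ => 1) i

theorem g0_iv (x : ℕ) : g0 (iv x) = (g0 x)⁻¹ := lv_iv _ _

theorem g0_eq {x : ℕ} (hx : x < 6) : g0 x = prodw ga (ex0 x) := by
  have e : ∀ a b : List ℕ, b = a.reverse.map iv → (prodw ga a)⁻¹ = prodw ga b :=
    fun a b h => by rw [h, prodw_inv ga_iv]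
  interval_cases x
  · rfl
  · exact e _ _ (by decide)
  · rfl
  · exact e _ _ (by decide)
  · rfl
  · exact e _ _ (by decide)

theorem g0_word {w : List ℕ} (hw : ∀ x ∈ w, x < 6) : prodw g0 w = prodw ga (w.flatMap ex0) :=
  prodw_subst ex0 w fun x hx => g0_eq (hw x hx)

theorem s0_rels : ∀ r, r < S0.log.nR → prodw g0 (S0.log.words.getD r []) = 1 := by
  refine rels_one (S0.log.words.drop 1) ?_ (by decide +kernel) (by decide +kernel)
  intro w hw
  have hc : (S0.log.words.drop 1).all (fun w => (w.all fun x => Nat.blt x 6) &&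
      ([] :: relsA).any (fun r => sameRed (w.flatMap ex0) r)) = true := by decide +kernel
  have h := List.all_eq_true.1 hc w hw
  simp only [Bool.and_eq_true, List.all_eq_true, Nat.blt_eq, List.any_eq_true] at h
  obtain ⟨hlt, r, hr, hs⟩ := h
  rw [g0_word hlt, prodw_of_sameRed ga_iv hs]
  rcases List.mem_cons.1 hr with rfl | hr
  · rfl
  · exact ga_rel hr

theorem s0_subs : ∀ r, r < S0.log.words.length → prodw g0 (S0.log.words.getD r []) ∈ (⊥ : Subgroup GA) :=
  subs_mem ⊥ s0_rels (by
    intro w hw
    rw [show S0.log.words.drop S0.log.nR = [] by decide +kernel] at hw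
    simp at hw)

/-- The subgroup generated by `y`, `s`, `q`. -/
def HA : Subgroup GA := Subgroup.closure (g0 '' {x | x < 6})

theorem iv_lt6 : ∀ x, x < 6 → iv x < 6 := by decide +kernel

theorem HA_bound : Finite HA ∧ Nat.card HA ≤ 240 := by
  have h := finite_and_card_le g0_iv S0.log ⊥ s0_rels s0_subs (letters_lt S0.letters_ok) S0.factsOK
    S0.closed (d := 8) (show S0.log.k ≤ 14 by decide +kernel) iv_lt6
    (show S0.closed.n ≤ 2 ^ 8 by decide +kernel) (by decide +kernel) (by decide +kernel) S0.edgesOK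
  rw [Subgroup.card_bot, mul_one] at h
  exact h

instance : Finite HA := HA_bound.1

theorem s1_rels : ∀ r, r < S1.log.nR → prodw ga (S1.log.words.getD r []) = 1 := by
  refine rels_one (relsA ++ [[0, 0, 2, 2, 0, 0, 3, 3], [0, 0, 2, 2, 1, 1, 3, 3],
    [0, 0, 2, 2, 2, 0, 0, 3, 3, 3], [0, 0, 2, 2, 2, 1, 1, 3, 3, 3]]) ?_ (by decide +kernel)
    (by decide +kernel)
  intro w hw
  rcases List.mem_append.1 hw with h | h
  · exact ga_rel h
  · simp only [List.mem_cons, List.not_mem_nil, or_false] at h
    rcases h with rfl | rfl | rfl | rfl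
    · exact lc_loop LC.loop0_ok
    · exact lc_loop LC.loop1_ok
    · exact lc_loop LC.loop2_ok
    · exact lc_loop LC.loop3_ok

theorem s1_subs : ∀ r, r < S1.log.words.length → prodw ga (S1.log.words.getD r []) ∈ HA :=
  subs_mem HA s1_rels (by
    intro w hw
    rw [show S1.log.words.drop S1.log.nR = [[2], [1, 2, 2, 2, 0], [0, 0]] by decide +kernel] at hw
    simp only [List.mem_cons, List.not_mem_nil, or_false] at hw
    rcases hw with rfl | rfl | rfl
    · exact Subgroup.subset_closure ⟨0, by show (0 : ℕ) < 6; omega, (g0_eq (by omega))⟩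
    · exact Subgroup.subset_closure ⟨2, by show (2 : ℕ) < 6; omega, (g0_eq (by omega))⟩
    · exact Subgroup.subset_closure ⟨4, by show (4 : ℕ) < 6; omega, (g0_eq (by omega))⟩)

theorem iv_lt4 : ∀ x, x < 4 → iv x < 4 := by decide +kernel

theorem closure_ga : Subgroup.closure (ga '' {x | x < 4}) = ⊤ := by
  rw [eq_top_iff, ← PresentedGroup.closure_range_of]
  refine Subgroup.closure_mono ?_
  rintro _ ⟨a, rfl⟩
  refine ⟨2 * a.val, show 2 * a.val < 4 by omega, ?_⟩
  fin_cases a <;> rfl

theorem GA_bound : Finite GA ∧ Nat.card GA ≤ 1512000 := by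
  have h := finite_and_card_le ga_iv S1.log HA s1_rels s1_subs (letters_lt S1.letters_ok) S1.factsOK
    S1.closed (d := 13) (show S1.log.k ≤ 14 by decide +kernel) iv_lt4
    (show S1.closed.n ≤ 2 ^ 13 by decide +kernel) (by decide +kernel) (by decide +kernel) S1.edgesOK
  rw [show S1.log.k = 4 by decide +kernel, closure_ga] at h
  haveI := h.1
  refine ⟨Finite.of_equiv _ Subgroup.topEquiv.toEquiv, ?_⟩
  rw [← Nat.card_congr (Subgroup.topEquiv (G := GA)).toEquiv]
  refine h.2.trans ?_
  rw [show S1.closed.n = 6300 by decide +kernel]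
  exact (Nat.mul_le_mul_left _ HA_bound.2).trans (by norm_num)

/-! ### The action on the cosets -/

/-- The image of a point under a word. -/
def wk (w : List ℕ) (i : ℕ) : ℕ :=
  List.rec (motive := fun _ => ℕ → ℕ) (fun i => i)
    (fun x _ ih i => force (S1.dest x i) fun j => ih j) w i

theorem wk_cons (x : ℕ) (w : List ℕ) (i : ℕ) : wk (x :: w) i = wk w (S1.dest x i) := by
  show (force (S1.dest x i) fun j => wk w j) = _
  rw [force_eq]

/-- The table is one of permutations. -/
def validOK (i : ℕ) : Bool :=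
  bif Nat.blt i 6300 then
    allR (fun x => Nat.blt (S1.dest x i) 6300 && Nat.beq (S1.dest (iv x) (S1.dest x i)) i) 2 0
  else true

theorem valid_all : allR validOK 13 0 = true := by decide +kernel

theorem valid {x i : ℕ} (hx : x < 4) (hi : i < 6300) :
    S1.dest x i < 6300 ∧ S1.dest (iv x) (S1.dest x i) = i := by
  have h := allR_spec 13 0 valid_all i (Nat.zero_le _) (by omega)
  unfold validOK at h
  rw [show Nat.blt i 6300 = true by simpa using hi] at h
  simp only [cond_true] at h
  simpa using allR_spec 2 0 h x (Nat.zero_le _) (by show x < 0 + 2 ^ 2; omega)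

/-- The permutation of a generator. -/
def permGen (j : ℕ) : Equiv.Perm (Fin 6300) :=
  if hj : j < 2 then
    { toFun := fun i => ⟨S1.dest (2 * j + 1) i.val, (valid (by omega) i.2).1⟩
      invFun := fun i => ⟨S1.dest (2 * j) i.val, (valid (by omega) i.2).1⟩
      left_inv := fun i => Fin.ext (by
        have := (valid (x := 2 * j + 1) (by omega) i.2).2
        rw [iv_odd] at this
        exact this)
      right_inv := fun i => Fin.ext (by
        have := (valid (x := 2 * j) (by omega) i.2).2
        rw [iv_even] at this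
        exact this) }
  else 1

theorem permGen_inv {x : ℕ} (hx : x < 4) (i : Fin 6300) :
    ((lv permGen x)⁻¹ i).val = S1.dest x i.val := by
  rcases Nat.even_or_odd' x with ⟨j, rfl | rfl⟩
  · rw [lv_eq, if_pos (by omega), show 2 * j / 2 = j by omega, permGen, dif_pos (by omega)]
    rfl
  · rw [lv_eq, if_neg (by omega), show (2 * j + 1) / 2 = j by omega, inv_inv, permGen,
      dif_pos (by omega)]
    rfl

theorem permGen_walk : ∀ w : List ℕ, (∀ x ∈ w, x < 4) → ∀ i : Fin 6300,
    ((prodw (lv permGen) w)⁻¹ i).val = wk w i.val := by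
  intro w
  induction w with
  | nil => intro _ i; rfl
  | cons x w ih =>
    intro hw i
    rw [prodw_cons, mul_inv_rev, Equiv.Perm.mul_apply, ih fun y hy => hw y (List.mem_cons_of_mem x hy),
      wk_cons, permGen_inv (hw x List.mem_cons_self)]

/-- A word fixes every point of a range. -/
def fixOK (w : List ℕ) (i : ℕ) : Bool := bif Nat.blt i 6300 then Nat.beq (wk w i) i else true

theorem rels_fix : relsA.all (fun w => allR (fixOK w) 13 0) = true := by decide +kernel

theorem permGen_rels : ∀ w ∈ relsA, prodw (lv permGen) w = 1 := by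
  intro w hw
  have hlt : ∀ w ∈ relsA, ∀ x ∈ w, x < 4 := by decide +kernel
  rw [← inv_eq_one]
  refine Equiv.ext fun i => Fin.ext ?_
  rw [permGen_walk w (hlt w hw) i, Equiv.Perm.one_apply]
  have h := allR_spec 13 0 (List.all_eq_true.1 rels_fix w hw) i.val (Nat.zero_le _) (by omega)
  unfold fixOK at h
  rw [show Nat.blt i.val 6300 = true by simpa using i.2] at h
  exact Nat.eq_of_beq_eq_true h

theorem exists_act : ∃ φ : GA →* Equiv.Perm (Fin 6300), ∀ x, x < 4 → φ (ga x) = lv permGen x :=
  exists_liftA permGen permGen_rels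

/-- The action on the cosets. -/
def act : GA →* Equiv.Perm (Fin 6300) := exists_act.choose

theorem act_word {w : List ℕ} (hw : ∀ x ∈ w, x < 4) (i : Fin 6300) :
    ((act (prodw ga w))⁻¹ i).val = wk w i.val := by
  have e : prodw (fun j => act (ga j)) w = prodw (lv permGen) w :=
    HNCert.prodw_congr fun x hx => exists_act.choose_spec x (hw x hx)
  rw [← permGen_walk w hw i, HNCert.map_prodw, e]

/-- Exponent of `x` modulo four. -/
def chi (w : List ℕ) : ℕ :=
  List.rec (motive := fun _ => ℕ) 0
    (fun x _ r => Nat.mod (Nat.add (bif Nat.beq x 0 then 1 else bif Nat.beq x 1 then 3 else 0) r) 4) w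

/-- The generators in `ℤ/4`. -/
def chiGen (j : ℕ) : Multiplicative (ZMod 4) := Multiplicative.ofAdd (if j = 0 then 1 else 0)

theorem chiGen_word : ∀ w : List ℕ, (∀ x ∈ w, x < 4) →
    prodw (lv chiGen) w = Multiplicative.ofAdd ((chi w : ℕ) : ZMod 4) := by
  intro w
  induction w with
  | nil => intro _; simp [prodw, chi]
  | cons x w ih =>
    intro hw
    have hx := hw x List.mem_cons_self
    rw [prodw_cons, ih fun y hy => hw y (List.mem_cons_of_mem x hy)]
    have e : lv chiGen x =
        Multiplicative.ofAdd (((bif Nat.beq x 0 then 1 else bif Nat.beq x 1 then 3 else 0 : ℕ)) : ZMod 4) := by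
      interval_cases x <;> decide
    rw [e, ← ofAdd_add]
    congr 1
    show _ = (((_ + chi w) % 4 : ℕ) : ZMod 4)
    rw [ZMod.natCast_mod, Nat.cast_add]

theorem chiGen_rels : ∀ w ∈ relsA, prodw (lv chiGen) w = 1 := by
  intro w hw
  have hlt : ∀ w ∈ relsA, ∀ x ∈ w, x < 4 := by decide +kernel
  have hc : ∀ w ∈ relsA, chi w = 0 := by decide +kernel
  rw [chiGen_word w (hlt w hw), hc w hw]
  simp

theorem exists_expX : ∃ ψ : GA →* Multiplicative (ZMod 4), ∀ x, x < 4 → ψ (ga x) = lv chiGen x :=
  exists_liftA chiGen chiGen_rels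

/-- The exponent of `x`. -/
def expX : GA →* Multiplicative (ZMod 4) := exists_expX.choose

theorem expX_word {w : List ℕ} (hw : ∀ x ∈ w, x < 4) :
    expX (prodw ga w) = Multiplicative.ofAdd ((chi w : ℕ) : ZMod 4) := by
  have e : prodw (fun j => expX (ga j)) w = prodw (lv chiGen) w :=
    HNCert.prodw_congr fun x hx => exists_expX.choose_spec x (hw x hx)
  rw [HNCert.map_prodw, e, chiGen_word w hw]

/-- The representative of a coset. -/
def rep1 (j : ℕ) : GA := S1.log.cr ga (S1.closed.node j)

theorem edge1 {i x : ℕ} (hi : i < 6300) (hx : x < 4) :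
    rep1 i * ga x * (rep1 (S1.dest x i))⁻¹ ∈ HA :=
  (edge_mem ga_iv S1.log HA s1_rels s1_subs (letters_lt S1.letters_ok) S1.factsOK S1.closed
    (show S1.log.k ≤ 14 by decide +kernel) (show S1.closed.n ≤ 2 ^ 13 by decide +kernel) S1.edgesOK
    (show i < S1.closed.n from hi) (show x < S1.log.k from hx)).2

theorem walk1 : ∀ w : List ℕ, (∀ x ∈ w, x < 4) → ∀ i, i < 6300 →
    rep1 i * prodw ga w * (rep1 (wk w i))⁻¹ ∈ HA := by
  intro w
  induction w with
  | nil => intro _ i _; simp [prodw, wk, HA.one_mem]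
  | cons x w ih =>
    intro hw i hi
    have hx := hw x List.mem_cons_self
    have := HA.mul_mem (edge1 hi hx) (ih (fun y hy => hw y (List.mem_cons_of_mem x hy)) _ (valid hx hi).1)
    rw [wk_cons, prodw_cons]
    simpa [mul_assoc] using this

/-- A word is recognised as one. -/
def isOne (w : List ℕ) : Bool :=
  (w.all fun x => Nat.blt x 4) && (Nat.beq (wk w 0) 0 &&
    ((basePts.all fun b => Nat.beq (wk w b) b) && Nat.beq (chi w) 0))

/-- The representative of an element of the small subgroup. -/
def rw0 (j : ℕ) : List ℕ := repWords.getD j []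

theorem cr0_eq : ∀ j, j < 240 → S0.log.cr g0 j = prodw g0 (rw0 j) := by
  have hc : allR (fun j => bif Nat.blt 0 j && Nat.blt j 240 then
      Nat.blt (S0.parN j) j && leq (rw0 j) (rw0 (S0.parN j) ++ [S0.parX j]) else true) 8 0 = true := by
    decide +kernel
  intro j
  induction j using Nat.strong_induction_on with
  | _ j ih =>
    intro hj
    rcases Nat.eq_zero_or_pos j with rfl | hpos
    · rw [Log.cr_zero, show rw0 0 = [] by decide +kernel]; rfl
    · have h := allR_spec 8 0 hc j (Nat.zero_le _) (by omega)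
      rw [show (Nat.blt 0 j && Nat.blt j 240) = true by simp [hpos, hj]] at h
      simp only [cond_true, Bool.and_eq_true, Nat.blt_eq] at h
      rw [leq_eq _ _ h.2, prodw_append, ← ih _ h.1 (by omega)]
      conv_lhs => rw [Log.cr, dif_pos (show 0 < j ∧ S0.log.parN j < j from ⟨hpos, h.1⟩)]
      show _ = S0.log.cr g0 (S0.parN j) * prodw g0 [S0.parX j]
      simp [prodw, S0.log]

theorem mem_HA {y : GA} (hy : y ∈ HA) : ∃ j, j < 240 ∧ y = S0.log.cr g0 j := by
  have hnode : ∀ j, j < 240 → S0.closed.node j = j := by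
    intro j hj
    have hc : allR (fun j => bif Nat.blt j 240 then Nat.beq (S0.node j) j else true) 8 0 = true := by
      decide +kernel
    have h := allR_spec 8 0 hc j (Nat.zero_le _) (by omega)
    rw [show Nat.blt j 240 = true by simpa using hj] at h
    exact Nat.eq_of_beq_eq_true h
  have step : ∀ j x, j < 240 → x < 6 → ∃ j', j' < 240 ∧ S0.log.cr g0 j * g0 x = S0.log.cr g0 j' := by
    intro j x hj hx
    have h := edge_mem g0_iv S0.log ⊥ s0_rels s0_subs (letters_lt S0.letters_ok) S0.factsOK
      S0.closed (d := 8) (show S0.log.k ≤ 14 by decide +kernel)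
      (show S0.closed.n ≤ 2 ^ 8 by decide +kernel) S0.edgesOK
      (show j < S0.closed.n from hj) (show x < S0.log.k from hx)
    obtain ⟨hd, hm⟩ := h
    refine ⟨S0.closed.dest x j, hd, ?_⟩
    rw [hnode j hj, hnode _ hd] at hm
    exact mul_inv_eq_one.1 (Subgroup.mem_bot.1 hm)
  induction hy using Subgroup.closure_induction_right with
  | one => exact ⟨0, by norm_num, (Log.cr_zero g0 S0.log).symm⟩
  | mul_right a _ b hb ih =>
    obtain ⟨j, hj, rfl⟩ := ih
    obtain ⟨x, hx, rfl⟩ := hb
    exact step j x hj hx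
  | mul_inv_cancel a _ b hb ih =>
    obtain ⟨j, hj, rfl⟩ := ih
    obtain ⟨x, hx, rfl⟩ := hb
    obtain ⟨j', hj', he⟩ := step j _ hj (iv_lt6 x hx)
    exact ⟨j', hj', by rw [← he, g0_iv]⟩

theorem one_of_isOne {w : List ℕ} (h : isOne w = true) : prodw ga w = 1 := by
  simp only [isOne, Bool.and_eq_true, List.all_eq_true, Nat.blt_eq, Nat.beq_eq] at h
  obtain ⟨hlt, h0, hb, hc⟩ := h
  have hmem : prodw ga w ∈ HA := by
    have h1 := walk1 w hlt 0 (by norm_num)
    rw [h0, show rep1 0 = 1 by
      rw [rep1, show S1.closed.node 0 = 0 by decide +kernel, Log.cr_zero]] at h1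
    simpa using h1
  obtain ⟨j, hj, hj'⟩ := mem_HA hmem
  rw [cr0_eq j hj] at hj'
  by_cases hz : j = 0
  · rw [hj', hz, show rw0 0 = [] by decide +kernel]; rfl
  exfalso
  have hc6 : ∀ x ∈ rw0 j, x < 6 := by
    have hc' : repWords.all (fun r => r.all fun x => Nat.blt x 6) = true := by decide +kernel
    intro x hx
    have hl : repWords.length = 240 := by decide +kernel
    simp only [rw0, List.getD_eq_getElem _ _ (show j < repWords.length by omega)] at hx
    simpa using List.all_eq_true.1 (List.all_eq_true.1 hc' _ (List.getElem_mem _)) x hx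
  rw [g0_word hc6] at hj'
  set v := (rw0 j).flatMap ex0 with hv
  have hsep : allR (fun i => bif Nat.blt 0 i && Nat.blt i 240 then
      (((rw0 i).flatMap ex0).all fun x => Nat.blt x 4) &&
        (!(basePts.all fun b => Nat.beq (wk ((rw0 i).flatMap ex0) b) b) ||
          !(Nat.beq (chi ((rw0 i).flatMap ex0)) 0)) else true) 8 0 = true := by decide +kernel
  have hs := allR_spec 8 0 hsep j (Nat.zero_le _) (by omega)
  rw [show (Nat.blt 0 j && Nat.blt j 240) = true by simp [Nat.pos_of_ne_zero hz, hj]] at hs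
  simp only [cond_true, ← hv, Bool.and_eq_true, List.all_eq_true, Nat.blt_eq, Bool.or_eq_true,
    Bool.not_eq_true'] at hs
  obtain ⟨hv4, hs⟩ := hs
  rcases hs with hs | hs
  · have hall : (basePts.all fun b => Nat.beq (wk v b) b) = true := by
      rw [List.all_eq_true]
      intro b hbm
      have hb' : ∀ b ∈ basePts, b < 6300 := by decide +kernel
      have e1 := act_word hlt ⟨b, hb' b hbm⟩
      have e2 := act_word hv4 ⟨b, hb' b hbm⟩
      rw [hj', e2] at e1
      rw [e1, Nat.beq_eq]
      exact hb b hbm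
    rw [hall] at hs
    exact Bool.noConfusion hs
  · have e1 := expX_word hlt
    rw [hj', expX_word hv4, hc] at e1
    have e2 : ((chi v : ℕ) : ZMod 4) = ((0 : ℕ) : ZMod 4) := by simpa using e1
    rw [ZMod.natCast_eq_natCast_iff'] at e2
    have hlt4 : chi v < 4 := by
      cases v with
      | nil => show (0 : ℕ) < 4; norm_num
      | cons a l => exact Nat.mod_lt _ (by norm_num)
    have : chi v = 0 := by omega
    rw [this] at hs
    exact Bool.noConfusion hs

end

end CfsgLib.HNXYZ
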