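import Cfsg.Agent.HNXYZ.Log

set_option autoImplicit false

/-! Words used in the bound on `⟨x, y, z⟩` (generated). -/

namespace CfsgLib.HNXYZ

/-- Relators of the cover of `U₃(5):2` on `x, y`. -/
def relsA : List (List ℕ) := [
  [2, 2, 2, 2, 2, 2],
  [0, 0, 2, 0, 0, 3],
  [1, 3, 0, 2, 1, 3, 0, 2, 1, 3, 0, 2],
  [1, 2, 2, 0, 2, 2, 2, 1, 2, 2, 0, 2, 2, 2, 1, 2, 2, 0, 2, 2, 2],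
  [0, 2, 0, 2, 0, 2, 0, 2, 0, 2, 0, 2, 0, 2, 0, 2],
  [0, 2, 0, 2, 2, 2, 0, 2, 0, 2, 2, 2, 0, 2, 0, 2, 2, 2, 0, 2, 0, 2, 2, 2],
  [0, 0, 0, 0],
  [0, 0, 2, 1, 1, 3],
  [2, 2, 2, 2, 2, 2],
  [2, 2, 1, 2, 2, 2, 0, 2, 2, 1, 2, 2, 2, 0, 2, 2, 1, 3, 3, 3, 0],
  [2, 1, 2, 2, 2, 0, 2, 1, 2, 2, 2, 0, 2, 1, 3, 3, 3, 0, 2, 1, 3, 3, 3, 0],
  [0, 2, 2, 2, 1, 1, 3, 3, 3, 0]]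

/-- Relators of `2.HS:2` with the inverse of `z` spelt by its own letter. -/
def relsP : List (List ℕ) := [
  [2, 2, 2, 2, 2, 2],
  [0, 0, 2, 0, 0, 3],
  [1, 3, 0, 2, 1, 3, 0, 2, 1, 3, 0, 2],
  [1, 2, 2, 0, 2, 2, 2, 1, 2, 2, 0, 2, 2, 2, 1, 2, 2, 0, 2, 2, 2],
  [0, 2, 0, 2, 0, 2, 0, 2, 0, 2, 0, 2, 0, 2, 0, 2],
  [0, 2, 0, 2, 2, 2, 0, 2, 0, 2, 2, 2, 0, 2, 0, 2, 2, 2, 0, 2, 0, 2, 2, 2],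
  [4, 4],
  [4, 0, 4, 0],
  [5, 2, 1, 3, 3, 1, 3, 1, 3, 4, 2, 0, 2, 0, 2, 2, 0, 3, 1, 1],
  [4, 3, 1, 3, 1, 3, 3, 3, 4, 2, 2, 2, 0, 2, 0, 2, 0, 3, 1, 3, 1, 3, 3, 3, 4, 2, 2, 2, 0, 2, 0, 2, 0, 3, 1, 3, 1, 3, 3, 3, 4, 2, 2, 2, 0, 2, 0, 2, 0]]

/-- The word `w` with `[z, w] = x²`. -/
def wW : List ℕ := [2, 0, 2, 0, 2, 2, 0, 3]

/-- The conjugate of `z`. -/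
def wU : List ℕ := [3, 1, 3, 1, 3, 3, 3, 4, 2, 2, 2, 0, 2, 0, 2]

/-- The conjugator of `z`. -/
def wV : List ℕ := [2, 2, 2, 0, 2, 0, 2]

/-- The element of order three. -/
def wE : List ℕ := [1, 2, 2, 1, 3, 1, 3, 1, 2, 2, 0, 3, 3, 0, 2, 0, 2, 0, 3, 3]

/-- The element of order three in the letters `x, x⁻¹, w, w⁻¹`. -/
def wEr : List ℕ := [2, 0, 2, 0, 2, 0, 2, 0, 2, 0, 2, 0, 2, 0]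

/-- `(b, o, r)`: `z b z = o`, both read off from the word `r` in `x, x⁻¹, w, w⁻¹`. -/
def conjPairs : List (List ℕ × List ℕ × List ℕ) := [
  ([0], [1], [0]),
  ([1], [0], [1]),
  ([0, 0], [0, 0], [0, 0]),
  ([2, 0, 3, 0, 2], [2, 0, 3, 0, 2], [2, 0, 2, 2, 2, 0, 2, 2, 0, 2, 2, 2, 0, 2]),
  ([2, 0, 3, 1, 2], [2, 0, 3, 1, 2], [2, 0, 2, 2, 2, 0, 2, 2, 0, 2, 2, 2, 1, 2]),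
  ([3, 0, 2, 0, 3], [3, 0, 2, 0, 3], [3, 0, 3, 3, 3, 0, 3, 3, 0, 3, 3, 3, 0, 3]),
  ([3, 0, 2, 1, 3], [3, 0, 2, 1, 3], [3, 0, 3, 3, 3, 0, 3, 3, 0, 3, 3, 3, 1, 3]),
  ([0, 2, 0, 3, 0, 2], [0, 2, 0, 3, 1, 2], [0, 2, 0, 2, 2, 2, 0, 2, 2, 0, 2, 2, 2, 0, 2]),
  ([0, 2, 0, 3, 1, 2], [0, 2, 0, 3, 0, 2], [0, 2, 0, 2, 2, 2, 0, 2, 2, 0, 2, 2, 2, 1, 2]),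
  ([0, 3, 0, 2, 0, 3], [0, 3, 0, 2, 1, 3], [0, 3, 0, 3, 3, 3, 0, 3, 3, 0, 3, 3, 3, 0, 3]),
  ([0, 3, 0, 2, 1, 3], [0, 3, 0, 2, 0, 3], [0, 3, 0, 3, 3, 3, 0, 3, 3, 0, 3, 3, 3, 1, 3]),
  ([2, 0, 2, 2, 0, 2], [2, 0, 2, 2, 0, 2], [0, 2, 0, 2, 0, 2, 0, 3, 3, 3, 3, 3, 0, 3, 0, 3]),
  ([2, 0, 2, 2, 1, 2], [2, 0, 2, 2, 1, 2], [0, 2, 0, 2, 0, 2, 0, 3, 3, 3, 3, 3, 0, 3, 1, 3]),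
  ([3, 0, 3, 3, 0, 3], [3, 0, 3, 3, 0, 3], [0, 2, 2, 0, 3, 3, 3, 0, 2, 2, 2, 0, 2, 2, 2, 2]),
  ([3, 0, 3, 3, 1, 3], [3, 0, 3, 3, 1, 3], [0, 2, 2, 0, 3, 3, 3, 0, 2, 2, 2, 1, 2, 2, 2, 2]),
  ([0, 2, 0, 2, 2, 0, 2], [0, 2, 0, 2, 2, 1, 2], [2, 0, 2, 0, 2, 0, 3, 3, 3, 3, 3, 0, 3, 1, 3]),
  ([0, 2, 0, 2, 2, 1, 2], [0, 2, 0, 2, 2, 0, 2], [2, 0, 2, 0, 2, 0, 3, 3, 3, 3, 3, 0, 3, 0, 3]),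
  ([0, 3, 0, 3, 3, 0, 3], [0, 3, 0, 3, 3, 1, 3], [2, 2, 0, 3, 3, 3, 0, 2, 2, 2, 1, 2, 2, 2, 2]),
  ([0, 3, 0, 3, 3, 1, 3], [0, 3, 0, 3, 3, 0, 3], [2, 2, 0, 3, 3, 3, 0, 2, 2, 2, 0, 2, 2, 2, 2]),
  ([2, 0, 2, 0, 2, 0, 2], [2, 0, 2, 0, 2, 1, 2], [2, 2, 0, 2, 2, 2, 0, 2, 2, 0, 2, 2, 2, 1, 2])]

/-- The further relators used by the enumeration over `⟨x, y⟩`. -/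
def baseRels : List (List ℕ) := [
  [2, 2, 2, 2, 2, 2],
  [0, 0, 2, 0, 0, 3],
  [1, 3, 0, 2, 1, 3, 0, 2, 1, 3, 0, 2],
  [1, 2, 2, 0, 2, 2, 2, 1, 2, 2, 0, 2, 2, 2, 1, 2, 2, 0, 2, 2, 2],
  [0, 2, 0, 2, 0, 2, 0, 2, 0, 2, 0, 2, 0, 2, 0, 2],
  [0, 2, 0, 2, 2, 2, 0, 2, 0, 2, 2, 2, 0, 2, 0, 2, 2, 2, 0, 2, 0, 2, 2, 2],
  [4, 4],
  [4, 0, 4, 0],
  [0, 0, 0, 0],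
  [0, 0, 2, 1, 1, 3],
  [0, 0, 4, 1, 1, 4],
  [7, 2, 0, 2, 0, 2, 2, 0, 3],
  [9, 3, 1, 3, 1, 3, 3, 3, 4, 2, 2, 2, 0, 2, 0, 2],
  [4, 7, 4, 6, 0, 0],
  [4, 8, 0, 8, 0, 8, 0],
  [8, 8]]

/-- Points telling apart the elements of the subgroup of order 240. -/
def basePts : List ℕ := [6210]

/-- The elements of the subgroup of order 240. -/
def repWords : List (List ℕ) := [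
  [],
  [0],
  [1],
  [2],
  [4],
  [0, 0],
  [0, 2],
  [0, 4],
  [1, 1],
  [1, 2],
  [1, 4],
  [2, 0],
  [2, 1],
  [2, 4],
  [0, 0, 0],
  [0, 0, 2],
  [0, 0, 4],
  [0, 2, 0],
  [0, 2, 1],
  [0, 2, 4],
  [1, 1, 2],
  [1, 1, 4],
  [1, 2, 0],
  [1, 2, 1],
  [1, 2, 4],
  [2, 0, 0],
  [2, 0, 2],
  [2, 0, 4],
  [2, 1, 1],
  [2, 1, 2],
  [2, 1, 4],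
  [0, 0, 0, 2],
  [0, 0, 0, 4],
  [0, 0, 2, 0],
  [0, 0, 2, 1],
  [0, 0, 2, 4],
  [0, 2, 0, 0],
  [0, 2, 0, 2],
  [0, 2, 0, 4],
  [0, 2, 1, 1],
  [0, 2, 1, 2],
  [0, 2, 1, 4],
  [1, 1, 2, 0],
  [1, 1, 2, 1],
  [1, 1, 2, 4],
  [1, 2, 0, 0],
  [1, 2, 0, 2],
  [1, 2, 0, 4],
  [1, 2, 1, 1],
  [1, 2, 1, 2],
  [1, 2, 1, 4],
  [2, 0, 0, 0],
  [2, 0, 0, 2],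
  [2, 0, 0, 4],
  [2, 0, 2, 1],
  [2, 0, 2, 4],
  [2, 1, 1, 2],
  [2, 1, 1, 4],
  [2, 1, 2, 0],
  [2, 1, 2, 4],
  [0, 0, 0, 2, 0],
  [0, 0, 0, 2, 1],
  [0, 0, 0, 2, 4],
  [0, 0, 2, 0, 2],
  [0, 0, 2, 0, 4],
  [0, 0, 2, 1, 1],
  [0, 0, 2, 1, 2],
  [0, 0, 2, 1, 4],
  [0, 2, 0, 0, 0],
  [0, 2, 0, 0, 4],
  [0, 2, 0, 2, 1],
  [0, 2, 0, 2, 4],
  [0, 2, 1, 1, 2],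
  [0, 2, 1, 1, 4],
  [0, 2, 1, 2, 0],
  [0, 2, 1, 2, 4],
  [1, 1, 2, 0, 0],
  [1, 1, 2, 0, 2],
  [1, 1, 2, 0, 4],
  [1, 1, 2, 1, 2],
  [1, 1, 2, 1, 4],
  [1, 2, 0, 0, 0],
  [1, 2, 0, 0, 2],
  [1, 2, 0, 0, 4],
  [1, 2, 0, 2, 1],
  [1, 2, 0, 2, 4],
  [1, 2, 1, 1, 4],
  [1, 2, 1, 2, 0],
  [1, 2, 1, 2, 4],
  [2, 0, 0, 0, 2],
  [2, 0, 0, 0, 4],
  [2, 0, 0, 2, 1],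
  [2, 0, 0, 2, 4],
  [2, 0, 2, 1, 1],
  [2, 0, 2, 1, 2],
  [2, 0, 2, 1, 4],
  [2, 1, 1, 2, 0],
  [2, 1, 1, 2, 4],
  [2, 1, 2, 0, 0],
  [2, 1, 2, 0, 2],
  [2, 1, 2, 0, 4],
  [0, 0, 0, 2, 0, 2],
  [0, 0, 0, 2, 0, 4],
  [0, 0, 0, 2, 1, 2],
  [0, 0, 0, 2, 1, 4],
  [0, 0, 2, 0, 2, 4],
  [0, 0, 2, 1, 1, 4],
  [0, 0, 2, 1, 2, 0],
  [0, 0, 2, 1, 2, 4],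
  [0, 2, 0, 0, 0, 2],
  [0, 2, 0, 0, 0, 4],
  [0, 2, 0, 2, 1, 1],
  [0, 2, 0, 2, 1, 4],
  [0, 2, 1, 1, 2, 0],
  [0, 2, 1, 1, 2, 4],
  [0, 2, 1, 2, 0, 0],
  [0, 2, 1, 2, 0, 2],
  [0, 2, 1, 2, 0, 4],
  [1, 1, 2, 0, 0, 4],
  [1, 1, 2, 0, 2, 1],
  [1, 1, 2, 0, 2, 4],
  [1, 1, 2, 1, 2, 4],
  [1, 2, 0, 0, 0, 2],
  [1, 2, 0, 0, 0, 4],
  [1, 2, 0, 0, 2, 4],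
  [1, 2, 0, 2, 1, 1],
  [1, 2, 0, 2, 1, 2],
  [1, 2, 0, 2, 1, 4],
  [1, 2, 1, 2, 0, 0],
  [1, 2, 1, 2, 0, 4],
  [2, 0, 0, 0, 2, 0],
  [2, 0, 0, 0, 2, 1],
  [2, 0, 0, 0, 2, 4],
  [2, 0, 0, 2, 1, 2],
  [2, 0, 0, 2, 1, 4],
  [2, 0, 2, 1, 1, 2],
  [2, 0, 2, 1, 1, 4],
  [2, 0, 2, 1, 2, 0],
  [2, 0, 2, 1, 2, 4],
  [2, 1, 1, 2, 0, 2],
  [2, 1, 1, 2, 0, 4],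
  [2, 1, 2, 0, 0, 2],
  [2, 1, 2, 0, 0, 4],
  [2, 1, 2, 0, 2, 1],
  [2, 1, 2, 0, 2, 4],
  [0, 0, 0, 2, 0, 2, 4],
  [0, 0, 0, 2, 1, 2, 4],
  [0, 0, 2, 1, 2, 0, 0],
  [0, 0, 2, 1, 2, 0, 4],
  [0, 2, 0, 0, 0, 2, 0],
  [0, 2, 0, 0, 0, 2, 1],
  [0, 2, 0, 0, 0, 2, 4],
  [0, 2, 0, 2, 1, 1, 2],
  [0, 2, 0, 2, 1, 1, 4],
  [0, 2, 1, 1, 2, 0, 2],
  [0, 2, 1, 1, 2, 0, 4],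
  [0, 2, 1, 2, 0, 0, 2],
  [0, 2, 1, 2, 0, 0, 4],
  [0, 2, 1, 2, 0, 2, 1],
  [0, 2, 1, 2, 0, 2, 4],
  [1, 1, 2, 0, 2, 1, 1],
  [1, 1, 2, 0, 2, 1, 4],
  [1, 2, 0, 0, 0, 2, 0],
  [1, 2, 0, 0, 0, 2, 1],
  [1, 2, 0, 0, 0, 2, 4],
  [1, 2, 0, 2, 1, 1, 2],
  [1, 2, 0, 2, 1, 1, 4],
  [1, 2, 0, 2, 1, 2, 0],
  [1, 2, 0, 2, 1, 2, 4],
  [1, 2, 1, 2, 0, 0, 2],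
  [1, 2, 1, 2, 0, 0, 4],
  [2, 0, 0, 0, 2, 0, 2],
  [2, 0, 0, 0, 2, 0, 4],
  [2, 0, 0, 0, 2, 1, 2],
  [2, 0, 0, 0, 2, 1, 4],
  [2, 0, 0, 2, 1, 2, 0],
  [2, 0, 0, 2, 1, 2, 4],
  [2, 0, 2, 1, 1, 2, 0],
  [2, 0, 2, 1, 1, 2, 4],
  [2, 0, 2, 1, 2, 0, 2],
  [2, 0, 2, 1, 2, 0, 4],
  [2, 1, 1, 2, 0, 2, 1],
  [2, 1, 1, 2, 0, 2, 4],
  [2, 1, 2, 0, 0, 2, 4],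
  [2, 1, 2, 0, 2, 1, 2],
  [2, 1, 2, 0, 2, 1, 4],
  [0, 0, 2, 1, 2, 0, 0, 2],
  [0, 0, 2, 1, 2, 0, 0, 4],
  [0, 2, 0, 0, 0, 2, 0, 4],
  [0, 2, 0, 0, 0, 2, 1, 2],
  [0, 2, 0, 0, 0, 2, 1, 4],
  [0, 2, 0, 2, 1, 1, 2, 0],
  [0, 2, 0, 2, 1, 1, 2, 4],
  [0, 2, 1, 1, 2, 0, 2, 1],
  [0, 2, 1, 1, 2, 0, 2, 4],
  [0, 2, 1, 2, 0, 0, 2, 4],
  [0, 2, 1, 2, 0, 2, 1, 2],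
  [0, 2, 1, 2, 0, 2, 1, 4],
  [1, 1, 2, 0, 2, 1, 1, 2],
  [1, 1, 2, 0, 2, 1, 1, 4],
  [1, 2, 0, 0, 0, 2, 0, 4],
  [1, 2, 0, 0, 0, 2, 1, 4],
  [1, 2, 0, 2, 1, 1, 2, 0],
  [1, 2, 0, 2, 1, 1, 2, 4],
  [1, 2, 0, 2, 1, 2, 0, 2],
  [1, 2, 0, 2, 1, 2, 0, 4],
  [1, 2, 1, 2, 0, 0, 2, 4],
  [2, 0, 0, 0, 2, 0, 2, 4],
  [2, 0, 0, 0, 2, 1, 2, 4],
  [2, 0, 0, 2, 1, 2, 0, 4],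
  [2, 0, 2, 1, 1, 2, 0, 2],
  [2, 0, 2, 1, 1, 2, 0, 4],
  [2, 0, 2, 1, 2, 0, 2, 1],
  [2, 0, 2, 1, 2, 0, 2, 4],
  [2, 1, 1, 2, 0, 2, 1, 4],
  [2, 1, 2, 0, 2, 1, 2, 0],
  [2, 1, 2, 0, 2, 1, 2, 4],
  [0, 0, 2, 1, 2, 0, 0, 2, 4],
  [0, 2, 0, 0, 0, 2, 1, 2, 4],
  [0, 2, 0, 2, 1, 1, 2, 0, 2],
  [0, 2, 0, 2, 1, 1, 2, 0, 4],
  [0, 2, 1, 1, 2, 0, 2, 1, 4],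
  [0, 2, 1, 2, 0, 2, 1, 2, 0],
  [0, 2, 1, 2, 0, 2, 1, 2, 4],
  [1, 1, 2, 0, 2, 1, 1, 2, 4],
  [1, 2, 0, 2, 1, 1, 2, 0, 2],
  [1, 2, 0, 2, 1, 1, 2, 0, 4],
  [1, 2, 0, 2, 1, 2, 0, 2, 4],
  [2, 0, 2, 1, 1, 2, 0, 2, 4],
  [2, 0, 2, 1, 2, 0, 2, 1, 2],
  [2, 0, 2, 1, 2, 0, 2, 1, 4],
  [2, 1, 2, 0, 2, 1, 2, 0, 2],
  [2, 1, 2, 0, 2, 1, 2, 0, 4],
  [0, 2, 0, 2, 1, 1, 2, 0, 2, 4],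
  [0, 2, 1, 2, 0, 2, 1, 2, 0, 2],
  [0, 2, 1, 2, 0, 2, 1, 2, 0, 4],
  [1, 2, 0, 2, 1, 1, 2, 0, 2, 4],
  [2, 0, 2, 1, 2, 0, 2, 1, 2, 4],
  [2, 1, 2, 0, 2, 1, 2, 0, 2, 4],
  [0, 2, 1, 2, 0, 2, 1, 2, 0, 2, 4]]

end CfsgLib.HNXYZ
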