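import Cfsg.Agent.HNXYZ.Log
import Cfsg.Agent.HNXYZ.Words
import Cfsg.Agent.HNCert.Setup
import Cfsg.Agent.HNXYZ.Cert.LA
import Cfsg.Agent.HNXYZ.Cert.LB

/-!
The group on `x, y` with its relators, and its map into the group presented on `x, y, z`.
-/

set_option autoImplicit false
set_option maxRecDepth 100000

namespace CfsgLib.HNXYZ

open CfsgLib.CosetEnum CfsgLib.LyG2

noncomputable section

section Generic

variable {G : Type*} [Group G] {g : ℕ → G}

/-- The hypotheses on the relators of a log from a list of true words. -/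
theorem rels_one {words : List (List ℕ)} {nR : ℕ} (S : List (List ℕ))
    (hS : ∀ w ∈ S, prodw g w = 1) (hn : nR ≤ words.length)
    (hc : (words.take nR).all (fun w => decide (w ∈ [] :: S)) = true) :
    ∀ r, r < nR → prodw g (words.getD r []) = 1 := by
  intro r hr
  have hm : words.getD r [] ∈ words.take nR := by
    rw [List.getD_eq_getElem _ _ (by omega)]
    exact List.mem_take_iff_getElem.2 ⟨r, by omega, rfl⟩
  rcases List.mem_cons.1 (of_decide_eq_true (List.all_eq_true.1 hc _ hm)) with h | h
  · rw [h, prodw_nil]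
  · exact hS _ h

/-- The hypotheses on the subgroup words of a log. -/
theorem subs_mem {words : List (List ℕ)} {nR : ℕ} (H : Subgroup G)
    (hR : ∀ r, r < nR → prodw g (words.getD r []) = 1)
    (hS : ∀ w ∈ words.drop nR, prodw g w ∈ H) :
    ∀ r, r < words.length → prodw g (words.getD r []) ∈ H := by
  intro r hr
  by_cases h : r < nR
  · rw [hR r h]; exact H.one_mem
  · refine hS _ ?_
    rw [List.getD_eq_getElem _ _ hr]
    exact List.mem_drop_iff_getElem.2 ⟨r - nR, by omega, by congr 1; omega⟩

/-- The letters of a log. -/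
theorem letters_lt {words : List (List ℕ)}
    (h : words.all (fun w => w.all fun x => Nat.blt x 14) = true) :
    ∀ r, ∀ x ∈ words.getD r [], x < 14 := by
  intro r x hx
  rw [List.getD_eq_getElem?_getD] at hx
  by_cases hr : r < words.length
  · rw [List.getElem?_eq_getElem hr, Option.getD_some] at hx
    simpa using List.all_eq_true.1 (List.all_eq_true.1 h _ (List.getElem_mem hr)) x hx
  · rw [List.getElem?_eq_none (by omega)] at hx
    simp at hx

variable (hg : ∀ x, g (iv x) = (g x)⁻¹)

/-- Two words with the same reduction. -/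
def sameRed (a b : List ℕ) : Bool :=
  (a.all fun x => Nat.blt x 14) && ((b.all fun x => Nat.blt x 14) &&
    leq (redRev a []) (redRev b []))

include hg in
theorem prodw_of_sameRed {a b : List ℕ} (h : sameRed a b = true) : prodw g a = prodw g b := by
  simp only [sameRed, Bool.and_eq_true, List.all_eq_true, Nat.blt_eq] at h
  obtain ⟨ha, hb, he⟩ := h
  have h1 := rv_redRev hg a [] ha
  have h2 := rv_redRev hg b [] hb
  rw [leq_eq _ _ he] at h1
  rw [h2] at h1
  exact (mul_left_cancel h1).symm

/-- Products of words substituted for letters. -/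
theorem prodw_subst {g' : ℕ → G} (ex : ℕ → List ℕ) : ∀ (w : List ℕ),
    (∀ x ∈ w, g' x = prodw g (ex x)) → prodw g' w = prodw g (w.flatMap ex) := by
  intro w
  induction w with
  | nil => intro _; rfl
  | cons x w ih =>
    intro h
    rw [prodw_cons, List.flatMap_cons, prodw_append, h x List.mem_cons_self,
      ih fun y hy => h y (List.mem_cons_of_mem x hy)]

include hg in
theorem prodw_inv (w : List ℕ) : prodw g (w.reverse.map iv) = (prodw g w)⁻¹ := by
  induction w with
  | nil => simp [prodw]
  | cons x w ih =>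
    rw [List.reverse_cons, List.map_append, prodw_append, ih, prodw_cons, mul_inv_rev]
    simp [prodw, hg]

end Generic

/-- The relators in the free group. -/
def relSetA : Set (FreeGroup (Fin 2)) :=
  {r | ∃ w ∈ relsA, r = prodw (lv fun i => FreeGroup.of (Fin.ofNat 2 i)) w}

/-- The group on `x, y`. -/
abbrev GA : Type := PresentedGroup relSetA

/-- The letters `x, x⁻¹, y, y⁻¹` in it. -/
def ga (i : ℕ) : GA := lv (fun j => PresentedGroup.of (Fin.ofNat 2 j)) i

theorem ga_iv (x : ℕ) : ga (iv x) = (ga x)⁻¹ := lv_iv _ _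

theorem ga_rel {w : List ℕ} (hw : w ∈ relsA) : prodw ga w = 1 := by
  have h : PresentedGroup.mk relSetA
      (prodw (lv fun i => FreeGroup.of (Fin.ofNat 2 i)) w) = 1 :=
    PresentedGroup.one_of_mem ⟨w, hw, rfl⟩
  rw [HNCert.map_prodw] at h
  rw [← h]
  exact HNCert.prodw_congr fun i _ => (map_lv _ _ i).symm

/-- A pair satisfying the relators gives a homomorphism. -/
theorem exists_liftA {K : Type*} [Group K] (f : ℕ → K)
    (h : ∀ w ∈ relsA, prodw (lv f) w = 1) :
    ∃ χ : GA →* K, ∀ x, x < 4 → χ (ga x) = lv f x := by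
  refine ⟨PresentedGroup.toGroup (f := fun i : Fin 2 => f i.val) ?_, fun x hx => ?_⟩
  · rintro r ⟨w, hw, rfl⟩
    rw [HNCert.map_prodw, ← h w hw]
    have hlt : ∀ w ∈ relsA, ∀ i ∈ w, i < 4 := by decide +kernel
    refine HNCert.prodw_congr fun i hi => ?_
    rw [map_lv]
    simp only [FreeGroup.lift_apply_of]
    have := hlt w hw i hi
    interval_cases i <;> simp [lv_eq]
  · rw [ga, map_lv]
    simp only [PresentedGroup.toGroup.of]
    interval_cases x <;> simp [lv_eq]

/-- The letters `x, x⁻¹, y, y⁻¹, z, z⁻¹` in the group on `x, y, z`. -/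
def g6 (i : ℕ) : HNCert.P :=
  lv (fun j => match j with
    | 0 => HNCert.pg 0
    | 1 => HNCert.pg 2
    | 2 => HNCert.pg 4
    | _ => 1) i

theorem g6_iv (x : ℕ) : g6 (iv x) = (g6 x)⁻¹ := lv_iv _ _

theorem z_sq : HNCert.pg 4 * HNCert.pg 4 = 1 := by
  simpa [prodw] using HNCert.pg_rel [4, 4] (by simp [HNCert.relP])

theorem base_rel {w : List ℕ} (hw : w ∈ relsP) : prodw g6 w = 1 := by
  have hc : relsP.all (fun w => decide (w.map (fun i => if i = 5 then 4 else i) ∈ HNCert.relP) &&
      w.all fun i => Nat.blt i 6) = true := by decide +kernel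
  have h := List.all_eq_true.1 hc w hw
  simp only [Bool.and_eq_true, decide_eq_true_eq, List.all_eq_true, Nat.blt_eq] at h
  rw [← HNCert.pg_rel _ h.1]
  simp only [prodw, List.map_map]
  congr 1
  refine List.map_congr_left fun i hi => ?_
  have := h.2 i hi
  have hz : (HNCert.pg 4)⁻¹ = HNCert.pg 4 := inv_eq_of_mul_eq_one_right z_sq
  interval_cases i <;> simp [g6, lv_eq, hz] <;> rfl

theorem la_rels : ∀ r, r < LA.log.nR → prodw g6 (LA.log.words.getD r []) = 1 :=
  rels_one relsP (fun _ => base_rel) (by decide +kernel) (by decide +kernel)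

theorem la_loop {w refs : List ℕ} (h : LA.log.loopOK w refs = true) : prodw g6 w = 1 :=
  Subgroup.mem_bot.1 (loop_sound g6_iv LA.log ⊥ la_rels
    (subs_mem ⊥ la_rels (by
      intro w hw
      rw [show LA.log.words.drop LA.log.nR = [] by decide +kernel] at hw
      simp at hw))
    (letters_lt LA.letters_ok) LA.factsOK h)

theorem lb_rels : ∀ r, r < LB.log.nR → prodw g6 (LB.log.words.getD r []) = 1 :=
  rels_one (relsP ++ [[0, 0, 0, 0], [0, 0, 2, 1, 1, 3]]) (by
    intro w hw
    rcases List.mem_append.1 hw with h | h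
    · exact base_rel h
    · simp only [List.mem_cons, List.not_mem_nil, or_false] at h
      rcases h with rfl | rfl
      · exact la_loop LA.loop0_ok
      · exact la_loop LA.loop1_ok) (by decide +kernel) (by decide +kernel)

theorem lb_loop {w refs : List ℕ} (h : LB.log.loopOK w refs = true) : prodw g6 w = 1 :=
  Subgroup.mem_bot.1 (loop_sound g6_iv LB.log ⊥ lb_rels
    (subs_mem ⊥ lb_rels (by
      intro w hw
      rw [show LB.log.words.drop LB.log.nR = [] by decide +kernel] at hw
      simp at hw))
    (letters_lt LB.letters_ok) LB.factsOK h)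

theorem relsA_in_P {w : List ℕ} (hw : w ∈ relsA) : prodw g6 w = 1 := by
  have hsplit : relsA = relsP.take 6 ++ relsA.drop 6 := by decide +kernel
  rw [hsplit] at hw
  rcases List.mem_append.1 hw with h | h
  · exact base_rel (List.mem_of_mem_take h)
  · have h' : w ∈ [[0, 0, 0, 0], [0, 0, 2, 1, 1, 3],
        (relsA.getD 8 []), (relsA.getD 9 []), (relsA.getD 10 []), (relsA.getD 11 [])] := by
      have e : relsA.drop 6 = [[0, 0, 0, 0], [0, 0, 2, 1, 1, 3],
        (relsA.getD 8 []), (relsA.getD 9 []), (relsA.getD 10 []), (relsA.getD 11 [])] := by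
        decide +kernel
      rwa [e] at h
    simp only [List.mem_cons, List.not_mem_nil, or_false] at h'
    rcases h' with rfl | rfl | rfl | rfl | rfl | rfl
    · exact la_loop LA.loop0_ok
    · exact la_loop LA.loop1_ok
    · exact lb_loop LB.loop0_ok
    · exact lb_loop LB.loop1_ok
    · exact lb_loop LB.loop2_ok
    · exact lb_loop LB.loop3_ok

theorem exists_toP : ∃ χ : GA →* HNCert.P, ∀ x, x < 4 → χ (ga x) = g6 x := by
  obtain ⟨χ, h⟩ := exists_liftA (fun j => g6 (2 * j)) (fun w hw => by
    have hlt : ∀ w ∈ relsA, ∀ i ∈ w, i < 4 := by decide +kernel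
    rw [← relsA_in_P hw]
    refine HNCert.prodw_congr fun i hi => ?_
    have := hlt w hw i hi
    interval_cases i <;> simp [g6, lv_eq])
  refine ⟨χ, fun x hx => (h x hx).trans ?_⟩
  interval_cases x <;> simp [g6, lv_eq]

/-- The map into the group on `x, y, z`. -/
def toP : GA →* HNCert.P := exists_toP.choose

theorem toP_ga {x : ℕ} (hx : x < 4) : toP (ga x) = g6 x := exists_toP.choose_spec x hx

theorem toP_prodw {w : List ℕ} (hw : ∀ i ∈ w, i < 4) : toP (prodw ga w) = prodw g6 w := by
  rw [HNCert.map_prodw]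
  exact HNCert.prodw_congr fun i hi => toP_ga (hw i hi)

end

end CfsgLib.HNXYZ
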